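import Mathlib
import Groth.Agent.VarDim1.KrullAkizuki

/-!
# Krull–Akizuki after an algebraic base extension
-/

set_option autoImplicit false
set_option maxHeartbeats 800000
universe u

open scoped TensorProduct
open Polynomial

namespace KAprod24

/-- Integral closure in a field generated by a Noetherian one-dimensional integral extension. -/
theorem isNoetherianRing_integralClosure_field (B F : Type u) [CommRing B] [IsDomain B] [Field F]
    [Algebra B F] [Ring.DimensionLEOne B] (C : Subalgebra B F) [IsNoetherianRing C]
    [Algebra.IsIntegral B C] (hfrac : ∀ z : F, ∃ c d : C, (d : F) ≠ 0 ∧ z * d = c)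
    (hinj : Function.Injective (algebraMap B F)) :
    IsNoetherianRing (integralClosure B F) := by
  have hCinj : Function.Injective (algebraMap B C) := fun x y h => hinj (congrArg Subtype.val h :)
  have : IsFractionRing C F := IsFractionRing.of_field C F fun z => by
    obtain ⟨c, d, hd, h⟩ := hfrac z
    exact ⟨c, d, by rw [show algebraMap C F c = (c : F) from rfl, show algebraMap C F d = (d : F) from rfl,
      eq_div_iff hd, h]⟩
  have : Ring.DimensionLEOne C := ⟨fun {P} hP hPp => by
    have : FaithfulSMul B C := (faithfulSMul_iff_algebraMap_injective B C).mpr hCinj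
    have h0 : P.comap (algebraMap B C) ≠ ⊥ := fun h => hP (Ideal.eq_bot_of_comap_eq_bot h)
    exact Ideal.isMaximal_of_isIntegral_of_isMaximal_comap P ((Ideal.IsPrime.comap _).isMaximal_of_ne_bot h0)⟩
  have : Ring.KrullDimLE 1 C := inferInstance
  have hD := Groth.Agent.VarDim1.isDedekindDomain_integralClosure (A := C) F (L := F)
  have hsame : ∀ x : F, x ∈ integralClosure B F ↔ x ∈ integralClosure C F := fun x =>
    ⟨fun h => h.tower_top, fun h => isIntegral_trans x h⟩
  let e : integralClosure C F ≃+* integralClosure B F :=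
    { toFun := fun x => ⟨x, (hsame x).mpr x.2⟩
      invFun := fun x => ⟨x, (hsame x).mp x.2⟩
      left_inv := fun x => rfl
      right_inv := fun x => rfl
      map_mul' := fun x y => rfl
      map_add' := fun x y => rfl }
  exact isNoetherianRing_of_ringEquiv _ e

theorem noetherian_integralClosure (A B K L : Type u) [CommRing A] [IsDomain A] [CommRing B] [IsDomain B]
    [Ring.DimensionLEOne B] [Algebra A B] [Algebra.EssFiniteType A B]
    [Field K] [Field L] [Algebra A K] [IsFractionRing A K] [Algebra B L] [IsFractionRing B L]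
    [Algebra K L] [Algebra A L] [IsScalarTower A K L] [IsScalarTower A B L]
    (K' : Type u) [Field K'] [Algebra K K'] [Algebra A K'] [IsScalarTower A K K'] [Algebra.IsAlgebraic K K']
    (hA' : IsNoetherianRing (integralClosure A K'))
    (L' : Type u) [CommRing L'] [IsReduced L'] [Algebra K L'] [Algebra L L'] [Algebra K' L'] [Algebra B L']
    [IsScalarTower K L L'] [IsScalarTower K K' L'] [IsScalarTower B L L']
    (q : L ⊗[K] K' →ₐ[K] L') (hq : Function.Surjective q)
    (hqL : ∀ y : L, q (y ⊗ₜ 1) = algebraMap L L' y) (hqK : ∀ z : K', q (1 ⊗ₜ z) = algebraMap K' L' z) :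
    IsNoetherianRing (integralClosure B L') := by
  classical
  have hqt : ∀ y z, q (y ⊗ₜ z) = algebraMap L L' y * algebraMap K' L' z := fun y z => by
    rw [← hqL, ← hqK, ← map_mul, Algebra.TensorProduct.tmul_mul_tmul, mul_one, one_mul]
  -- `L'` is Artinian
  have hLfin : Algebra.EssFiniteType K L := by
    have : Algebra.EssFiniteType B L := Algebra.EssFiniteType.of_isLocalization L (nonZeroDivisors B)
    have : Algebra.EssFiniteType A L := Algebra.EssFiniteType.comp A B L
    exact Algebra.EssFiniteType.of_comp A K L
  have : IsNoetherianRing (K' ⊗[K] L) := Algebra.EssFiniteType.isNoetherianRing K' (K' ⊗[K] L)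
  have : IsNoetherianRing L' :=
    isNoetherianRing_of_surjective (K' ⊗[K] L) L'
      (q.comp (Algebra.TensorProduct.comm K K' L).toAlgHom).toRingHom
      (hq.comp (Algebra.TensorProduct.comm K K' L).surjective)
  have hint : Algebra.IsIntegral L L' := ⟨fun x => by
    obtain ⟨t, rfl⟩ := hq x
    induction t using TensorProduct.induction_on with
    | zero => rw [map_zero]; exact isIntegral_zero
    | tmul y z =>
      rw [hqt]
      exact isIntegral_algebraMap.mul (((Algebra.IsIntegral.isIntegral (R := K) z).map
        (IsScalarTower.toAlgHom K K' L')).tower_top)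
    | add a b ha hb => rw [map_add]; exact ha.add hb⟩
  have : Ring.KrullDimLE 0 L' := Ring.KrullDimLE.mk₀ fun P hP =>
    Ideal.isMaximal_of_isIntegral_of_isMaximal_comap P
      (by
        rw [(Ideal.eq_bot_or_top (P.comap (algebraMap L L'))).resolve_right
          (Ideal.comap_ne_top _ hP.ne_top)]
        exact Ideal.bot_isMaximal)
  have : IsArtinianRing L' := IsNoetherianRing.isArtinianRing_of_krullDimLE_zero
  let _ : Algebra A L' := ((algebraMap K L').comp (algebraMap A K)).toAlgebra
  have : IsScalarTower A K L' := IsScalarTower.of_algebraMap_eq fun _ => rfl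
  have : IsScalarTower A B L' := IsScalarTower.of_algebraMap_eq fun a => by
    rw [IsScalarTower.algebraMap_apply A K L', IsScalarTower.algebraMap_apply K L L',
      ← IsScalarTower.algebraMap_apply A K L, IsScalarTower.algebraMap_apply A B L,
      ← IsScalarTower.algebraMap_apply B L L']
  have : IsScalarTower A K' L' := IsScalarTower.of_algebraMap_eq fun a => by
    rw [IsScalarTower.algebraMap_apply A K L', IsScalarTower.algebraMap_apply A K K',
      ← IsScalarTower.algebraMap_apply K K' L']
  let A' := integralClosure A K'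
  have : IsNoetherianRing (A' ⊗[A] B) := Algebra.EssFiniteType.isNoetherianRing A' (A' ⊗[A] B)
  have hBA' : IsNoetherianRing (B ⊗[A] A') :=
    isNoetherianRing_of_ringEquiv _ (Algebra.TensorProduct.comm A A' B).toRingEquiv
  -- the factors
  have hfac : ∀ I : MaximalSpectrum L', IsNoetherianRing (integralClosure B (L' ⧸ I.asIdeal)) := by
    intro I
    let F := L' ⧸ I.asIdeal
    let _ : Field F := Ideal.Quotient.field I.asIdeal
    have hinjB : Function.Injective (algebraMap B F) := by
      rw [IsScalarTower.algebraMap_eq B L F]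
      exact (algebraMap L F).injective.comp (IsFractionRing.injective B L)
    let ι : A' →ₐ[A] F := ((Ideal.Quotient.mkₐ A I.asIdeal).comp (IsScalarTower.toAlgHom A K' L')).comp A'.val
    let Φ : B ⊗[A] A' →ₐ[B] F :=
      Algebra.TensorProduct.lift (Algebra.ofId B F) ι (fun x y => Commute.all _ _)
    let C := Φ.range
    have : IsNoetherianRing C :=
      isNoetherianRing_of_surjective (B ⊗[A] A') C Φ.rangeRestrict.toRingHom Φ.rangeRestrict_surjective
    have : Algebra.IsIntegral A A' := integralClosure.AlgebraIsIntegral
    have : Algebra.IsIntegral B (B ⊗[A] A') := inferInstance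
    have : Algebra.IsIntegral B C := ⟨fun x => by
      obtain ⟨y, rfl⟩ := Φ.rangeRestrict_surjective x
      exact (Algebra.IsIntegral.isIntegral (R := B) y).map Φ.rangeRestrict⟩
    refine isNoetherianRing_integralClosure_field B F C ?_ hinjB
    intro z
    obtain ⟨x, rfl⟩ := Ideal.Quotient.mk_surjective z
    obtain ⟨t, rfl⟩ := hq x
    induction t using TensorProduct.induction_on with
    | zero => exact ⟨0, 1, by simp, by simp⟩
    | add a b ha hb =>
      obtain ⟨c₁, d₁, hd₁, h₁⟩ := ha
      obtain ⟨c₂, d₂, hd₂, h₂⟩ := hb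
      refine ⟨c₁ * d₂ + c₂ * d₁, d₁ * d₂, mul_ne_zero hd₁ hd₂, ?_⟩
      rw [map_add, map_add, Subalgebra.coe_mul, Subalgebra.coe_add, Subalgebra.coe_mul, Subalgebra.coe_mul,
        ← h₁, ← h₂]
      ring
    | tmul y z =>
      obtain ⟨b, s, hs, rfl⟩ := IsFractionRing.div_surjective B y
      obtain ⟨a, ha0, ha⟩ : ∃ a : A, a ≠ 0 ∧ IsIntegral A (a • z) := by
        obtain ⟨a, ha⟩ := IsIntegral.exists_multiple_integral_of_isLocalization (nonZeroDivisors A)
          (Rₘ := K) z (Algebra.IsIntegral.isIntegral z)
        exact ⟨a, nonZeroDivisors.ne_zero a.2, ha⟩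
      have hmem : ∀ (b : B) (w : A'), algebraMap B F b * ι w ∈ C := fun b w =>
        ⟨b ⊗ₜ w, by simp [Φ]⟩
      refine ⟨⟨_, hmem b ⟨a • z, ha⟩⟩,
        ⟨_, hmem s ⟨algebraMap A K' a, isIntegral_algebraMap⟩⟩, ?_, ?_⟩
      · show algebraMap B F s * _ ≠ 0
        refine mul_ne_zero ((map_ne_zero_iff _ hinjB).mpr (nonZeroDivisors.ne_zero hs)) ?_
        show algebraMap K' F (algebraMap A K' a) ≠ 0
        rw [map_ne_zero_iff _ (algebraMap K' F).injective, IsScalarTower.algebraMap_apply A K K',
          map_ne_zero_iff _ (algebraMap K K').injective, map_ne_zero_iff _ (IsFractionRing.injective A K)]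
        exact ha0
      · show Ideal.Quotient.mk _ (q _) * (algebraMap B F s * algebraMap K' F (algebraMap A K' a)) =
          algebraMap B F b * algebraMap K' F (a • z)
        have hs0 : algebraMap B L s ≠ 0 := IsFractionRing.to_map_ne_zero_of_mem_nonZeroDivisors hs
        rw [hqt, map_mul, Algebra.smul_def, map_mul]
        show algebraMap L F _ * algebraMap K' F z * _ = _
        rw [IsScalarTower.algebraMap_apply B L F s, IsScalarTower.algebraMap_apply B L F b, map_div₀]
        have h1 : algebraMap L F (algebraMap B L s) ≠ 0 :=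
          (map_ne_zero_iff _ (algebraMap L F).injective).mpr hs0
        field_simp
  -- the product
  let E : L' ≃ₐ[L'] ∀ I : MaximalSpectrum L', L' ⧸ I.asIdeal := IsArtinianRing.equivPi L'
  let π : ∀ I : MaximalSpectrum L', L' →ₐ[B] L' ⧸ I.asIdeal := fun I => Ideal.Quotient.mkₐ B I.asIdeal
  have hπ : ∀ x I, E x I = π I x := fun x I => by
    have := congrFun (E.commutes x) I
    exact this
  let Ψ : integralClosure B L' →+* ∀ I : MaximalSpectrum L', integralClosure B (L' ⧸ I.asIdeal) :=
    Pi.ringHom fun I =>
      { toFun := fun x => ⟨π I x, x.2.map (π I)⟩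
        map_one' := Subtype.ext (map_one (π I))
        map_mul' := fun x y => Subtype.ext (map_mul (π I) _ _)
        map_zero' := Subtype.ext (map_zero (π I))
        map_add' := fun x y => Subtype.ext (map_add (π I) _ _) }
  have hinjΨ : Function.Injective Ψ := fun x y h => Subtype.ext (E.injective (funext fun I => by
    rw [hπ, hπ]
    exact congrArg Subtype.val (congrFun h I)))
  have hsurjΨ : Function.Surjective Ψ := by
    intro v
    have : Finite (MaximalSpectrum L') := inferInstance
    let _ := Fintype.ofFinite (MaximalSpectrum L')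
    obtain ⟨x, hx⟩ := E.surjective (fun I => (v I : L' ⧸ I.asIdeal))
    choose f hfm hf using fun I => (v I).2
    refine ⟨⟨x, ⟨∏ I, f I, monic_prod_of_monic _ _ fun I _ => hfm I, ?_⟩⟩, funext fun I => Subtype.ext ?_⟩
    · rw [← aeval_def]
      refine E.injective (funext fun I => ?_)
      rw [map_zero, Pi.zero_apply, hπ, ← aeval_algHom_apply, ← hπ, hx, map_prod]
      exact Finset.prod_eq_zero (Finset.mem_univ I) (by rw [aeval_def]; exact hf I)
    · show π I x = v I
      rw [← hπ, hx]
  have : Finite (MaximalSpectrum L') := inferInstance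
  exact isNoetherianRing_of_ringEquiv _ (RingEquiv.ofBijective Ψ ⟨hinjΨ, hsurjΨ⟩).symm

end KAprod24
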